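import Mathlib

/-!
# helper39: a local-global principle for "a power of `x` kills `H^1_I(A)`", `A` a Noetherian domain,
in the language of the fraction field.

`InA y`: `y ∈ A`; `InLoc q y`: `y ∈ A_q`; `TA J y`: `J^k y ⊆ A` for some `k`;
`TLoc J q y`: `J^k y ⊆ A_q` for some `k`.
-/

set_option autoImplicit false
universe u

namespace Groth.Agent.Lib.Helper39.LocGlob

section Lang

variable (A : Type u) [CommRing A] {K : Type u} [Field K] [Algebra A K]

/-- `y` lies in (the image of) `A`. -/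
def InA (y : K) : Prop := ∃ a : A, algebraMap A K a = y

variable {A}

/-- `y` lies in `A_q`. -/
def InLoc (q : Ideal A) (y : K) : Prop := ∃ s : A, s ∉ q ∧ InA A (algebraMap A K s * y)

/-- `y` lies in the ideal transform `D_J(A)`. -/
def TA (J : Ideal A) (y : K) : Prop := ∃ k : ℕ, ∀ b ∈ J ^ k, InA A (algebraMap A K b * y)

/-- `y` lies in the ideal transform `D_{J A_q}(A_q)`. -/
def TLoc (J q : Ideal A) (y : K) : Prop := ∃ k : ℕ, ∀ b ∈ J ^ k, InLoc q (algebraMap A K b * y)

theorem InA.zero : InA A (0 : K) := ⟨0, map_zero _⟩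

theorem InA.of_eq {y z : K} (hy : InA A y) (h : y = z) : InA A z := h ▸ hy

theorem InA.add {y z : K} (hy : InA A y) (hz : InA A z) : InA A (y + z) := by
  obtain ⟨a, rfl⟩ := hy
  obtain ⟨b, rfl⟩ := hz
  exact ⟨a + b, map_add _ _ _⟩

theorem InA.mul_left (r : A) {y : K} (hy : InA A y) : InA A (algebraMap A K r * y) := by
  obtain ⟨a, rfl⟩ := hy
  exact ⟨r * a, map_mul _ _ _⟩

theorem InLoc.of_eq {q : Ideal A} {y z : K} (hy : InLoc q y) (h : y = z) : InLoc q z := h ▸ hy

theorem InLoc.of_InA (q : Ideal A) [q.IsPrime] {y : K} (hy : InA A y) : InLoc q y :=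
  ⟨1, (Ideal.ne_top_iff_one q).1 Ideal.IsPrime.ne_top', by rw [map_one, one_mul]; exact hy⟩

theorem InLoc.mul_left {q : Ideal A} (r : A) {y : K} (hy : InLoc q y) :
    InLoc q (algebraMap A K r * y) := by
  obtain ⟨s, hs, h⟩ := hy
  exact ⟨s, hs, (h.mul_left r).of_eq (by ring)⟩

theorem InLoc.add {q : Ideal A} [hq : q.IsPrime] {y z : K} (hy : InLoc q y) (hz : InLoc q z) :
    InLoc q (y + z) := by
  obtain ⟨s, hs, h⟩ := hy
  obtain ⟨s', hs', h'⟩ := hz
  refine ⟨s * s', fun hmem => (hq.mem_or_mem hmem).elim hs hs', ?_⟩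
  exact ((h.mul_left s').add (h'.mul_left s)).of_eq (by rw [map_mul]; ring)

theorem InLoc.of_mul {q : Ideal A} [hq : q.IsPrime] {s : A} (hs : s ∉ q) {y : K}
    (h : InLoc q (algebraMap A K s * y)) : InLoc q y := by
  obtain ⟨s', hs', h'⟩ := h
  exact ⟨s' * s, fun hmem => (hq.mem_or_mem hmem).elim hs' hs, h'.of_eq (by rw [map_mul]; ring)⟩

theorem TA.zero {J : Ideal A} : TA J (0 : K) :=
  ⟨0, fun b _ => by rw [mul_zero]; exact InA.zero⟩

theorem TA.mul_left {J : Ideal A} (r : A) {y : K} (hy : TA J y) :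
    TA J (algebraMap A K r * y) := by
  obtain ⟨k, hk⟩ := hy
  exact ⟨k, fun b hb => ((hk b hb).mul_left r).of_eq (by ring)⟩

theorem TA.add {J : Ideal A} {y z : K} (hy : TA J y) (hz : TA J z) : TA J (y + z) := by
  obtain ⟨k, hk⟩ := hy
  obtain ⟨l, hl⟩ := hz
  refine ⟨max k l, fun b hb => ?_⟩
  rw [mul_add]
  exact (hk b (Ideal.pow_le_pow_right (le_max_left _ _) hb)).add
    (hl b (Ideal.pow_le_pow_right (le_max_right _ _) hb))

theorem TA.toTLoc {J q : Ideal A} [q.IsPrime] {y : K} (hy : TA J y) : TLoc J q y := by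
  obtain ⟨k, hk⟩ := hy
  exact ⟨k, fun b hb => InLoc.of_InA q (hk b hb)⟩

theorem TA.pow_mem {J : Ideal A} {x : A} (hx : x ∈ J) {y : K} (hy : TA J y) :
    ∃ k : ℕ, InA A (algebraMap A K x ^ k * y) := by
  obtain ⟨k, hk⟩ := hy
  exact ⟨k, (hk (x ^ k) (Ideal.pow_mem_pow hx k)).of_eq (by rw [map_pow])⟩

theorem TLoc.exists_TA [IsNoetherianRing A] {J q : Ideal A} [hq : q.IsPrime] {y : K}
    (hy : TLoc J q y) : ∃ s : A, s ∉ q ∧ TA J (algebraMap A K s * y) := by
  classical
  obtain ⟨k, hk⟩ := hy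
  obtain ⟨T, hT⟩ := (IsNoetherian.noetherian (J ^ k) : (J ^ k).FG)
  have hmem : ∀ b ∈ T, b ∈ J ^ k := fun b hb => hT ▸ Submodule.subset_span hb
  have hex : ∀ b ∈ T, ∃ s : A, s ∉ q ∧ InA A (algebraMap A K s * (algebraMap A K b * y)) :=
    fun b hb => hk b (hmem b hb)
  choose! s hs hsa using hex
  refine ⟨∏ b ∈ T, s b, ?_, k, fun b hb => ?_⟩
  · intro hmem'
    obtain ⟨b, hb, hsb⟩ := (Ideal.IsPrime.prod_mem_iff).1 hmem'
    exact hs b hb hsb
  · rw [← hT] at hb
    induction hb using Submodule.span_induction with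
    | mem b hb =>
      have h1 : ∏ c ∈ T, s c = (∏ c ∈ T.erase b, s c) * s b := (Finset.prod_erase_mul T s hb).symm
      rw [h1, map_mul]
      exact ((hsa b hb).mul_left (∏ c ∈ T.erase b, s c)).of_eq (by ring)
    | zero => rw [map_zero, zero_mul]; exact InA.zero
    | add b c _ _ hb hc => rw [map_add, add_mul]; exact hb.add hc
    | smul r b _ hb => rw [smul_eq_mul, map_mul, mul_assoc]; exact hb.mul_left r

end Lang

section Chain

variable {A : Type u} [CommRing A] (K : Type u) [Field K] [Algebra A K]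

/-- the ideal of `a` such that `a x^n y ∈ A` whenever `y ∈ D_I(A)` and `x^{n+1} y ∈ A`. -/
def cIdeal (I : Ideal A) (x : A) (n : ℕ) : Ideal A where
  carrier := {a | ∀ y : K, TA I y → InA A (algebraMap A K x ^ (n + 1) * y) →
    InA A (algebraMap A K a * (algebraMap A K x ^ n * y))}
  zero_mem' := fun y _ _ => by rw [map_zero, zero_mul]; exact InA.zero
  add_mem' := fun ha hb y hy h => by rw [map_add, add_mul]; exact (ha y hy h).add (hb y hy h)
  smul_mem' := fun r a ha y hy h => by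
    rw [smul_eq_mul, map_mul, mul_assoc]; exact (ha y hy h).mul_left r

/-- a power of `x` kills `H^1_I(A)`. -/
def G (I : Ideal A) (x : A) : Prop :=
  ∃ n : ℕ, ∀ y : K, TA I y → InA A (algebraMap A K x ^ n * y)

/-- a power of `x` kills `H^1_{I A_q}(A_q)`. -/
def F (I : Ideal A) (x : A) (q : Ideal A) : Prop :=
  ∃ n : ℕ, ∀ y : K, TLoc I q y → InLoc q (algebraMap A K x ^ n * y)

/-- a power of `x` kills `H^1_{q A_q}(A_q)`. -/
def E (x : A) (q : Ideal A) : Prop :=
  ∃ j : ℕ, ∀ y : K, TLoc q q y → InLoc q (algebraMap A K x ^ j * y)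

variable {K}

theorem cIdeal_le_succ (I : Ideal A) (x : A) (n : ℕ) :
    cIdeal K I x n ≤ cIdeal K I x (n + 1) := by
  intro a ha y hy h
  have := ha (algebraMap A K x * y) (hy.mul_left x) (h.of_eq (by ring))
  exact this.of_eq (by ring)

theorem exists_stable [IsNoetherianRing A] (I : Ideal A) (x : A) :
    ∃ n₀ : ℕ, ∀ m : ℕ, n₀ ≤ m → cIdeal K I x n₀ = cIdeal K I x m := by
  have h := monotone_stabilizes_iff_noetherian.mpr (inferInstance : IsNoetherian A A)
  exact h ⟨cIdeal K I x, monotone_nat_of_le_succ (cIdeal_le_succ I x)⟩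

theorem desc {I : Ideal A} {x : A} {n₀ : ℕ}
    (hst : ∀ m : ℕ, n₀ ≤ m → cIdeal K I x n₀ = cIdeal K I x m) :
    ∀ (m : ℕ) (y : K), TA I y → InA A (algebraMap A K x ^ (n₀ + m) * y) →
      ∀ a ∈ (cIdeal K I x n₀) ^ m, InA A (algebraMap A K a * (algebraMap A K x ^ n₀ * y)) := by
  intro m
  induction m with
  | zero =>
    intro y _ h a _
    exact h.mul_left a
  | succ m ih =>
    intro y hy h a ha
    rw [pow_succ] at ha
    refine Submodule.mul_induction_on ha ?_ ?_
    · intro a₁ ha₁ a₂ ha₂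
      rw [hst (n₀ + m) (Nat.le_add_right _ _)] at ha₂
      have h1 := ha₂ y hy (h.of_eq (by ring))
      have h2 := ih (algebraMap A K a₂ * y) (hy.mul_left a₂) (h1.of_eq (by ring)) a₁ ha₁
      exact h2.of_eq (by rw [map_mul]; ring)
    · intro a b ha hb
      rw [map_add, add_mul]
      exact ha.add hb

theorem G_of_top {I : Ideal A} {x : A} (hx : x ∈ I) {n₀ : ℕ}
    (hst : ∀ m : ℕ, n₀ ≤ m → cIdeal K I x n₀ = cIdeal K I x m)
    (htop : cIdeal K I x n₀ = ⊤) : G K I x := by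
  refine ⟨n₀, fun y hy => ?_⟩
  obtain ⟨k, hk⟩ := hy.pow_mem hx
  have h1 : InA A (algebraMap A K x ^ (n₀ + k) * y) :=
    (hk.mul_left (x ^ n₀)).of_eq (by rw [map_pow]; ring)
  have h2 := desc hst k y hy h1 1 (by rw [htop, Ideal.top_pow]; trivial)
  exact h2.of_eq (by rw [map_one, one_mul])

theorem F_of_not_le {I : Ideal A} {x : A} (q : Ideal A) [hq : q.IsPrime] (h : ¬ I ≤ q) :
    F K I x q := by
  obtain ⟨b, hbI, hbq⟩ := SetLike.not_le_iff_exists.1 h
  refine ⟨0, fun y hy => ?_⟩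
  obtain ⟨k, hk⟩ := hy
  rw [pow_zero, one_mul]
  have hbk : b ^ k ∉ q := fun h => hbq (hq.mem_of_pow_mem k h)
  exact InLoc.of_mul hbk (hk (b ^ k) (Ideal.pow_mem_pow hbI k))

theorem cIdeal_not_le_of_F [IsNoetherianRing A] {I : Ideal A} {x : A}
    (hx0 : algebraMap A K x ≠ 0) {n₀ : ℕ}
    (hst : ∀ m : ℕ, n₀ ≤ m → cIdeal K I x n₀ = cIdeal K I x m)
    (q' : Ideal A) [hq' : q'.IsPrime] (hF : F K I x q') : ¬ cIdeal K I x n₀ ≤ q' := by
  classical
  obtain ⟨n', hn'⟩ := hF
  let 𝔞 : Ideal A :=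
    { carrier := {a | TA I (algebraMap A K a / algebraMap A K x ^ (n₀ + n' + 1))}
      zero_mem' := by
        change TA I _
        rw [map_zero, zero_div]
        exact TA.zero
      add_mem' := fun {a b} ha hb => by
        change TA I _
        rw [map_add, add_div]
        exact TA.add ha hb
      smul_mem' := fun r a ha => by
        change TA I _
        rw [smul_eq_mul, map_mul, mul_div_assoc]
        exact TA.mul_left r ha }
  obtain ⟨T, hT⟩ := (IsNoetherian.noetherian 𝔞 : 𝔞.FG)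
  have hmem : ∀ a ∈ T, TA I (algebraMap A K a / algebraMap A K x ^ (n₀ + n' + 1)) := fun a ha =>
    (hT ▸ Submodule.subset_span ha : a ∈ 𝔞)
  have hdiv : ∀ a : A, algebraMap A K x ^ (n₀ + n') *
      (algebraMap A K a / algebraMap A K x ^ (n₀ + n' + 1)) =
      algebraMap A K a / algebraMap A K x := by
    intro a
    rw [pow_succ]
    field_simp
  have hloc : ∀ a ∈ T, ∃ s : A, s ∉ q' ∧
      InA A (algebraMap A K s * (algebraMap A K a / algebraMap A K x)) := by
    intro a ha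
    have h1 := hn' _ (TA.toTLoc (q := q') (hmem a ha))
    have h2 : InLoc q' (algebraMap A K a / algebraMap A K x) := by
      refine (h1.mul_left (x ^ n₀)).of_eq ?_
      rw [← hdiv a, map_pow, pow_add]
      ring
    exact h2
  choose! s hs hsa using hloc
  have hs₀ : ∏ a ∈ T, s a ∉ q' := by
    intro hmem'
    obtain ⟨b, hb, hsb⟩ := (Ideal.IsPrime.prod_mem_iff).1 hmem'
    exact hs b hb hsb
  have key : ∀ a ∈ 𝔞, InA A (algebraMap A K (∏ a ∈ T, s a) *
      (algebraMap A K a / algebraMap A K x)) := by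
    intro a ha
    rw [← hT] at ha
    induction ha using Submodule.span_induction with
    | mem b hb =>
      have h1 : ∏ c ∈ T, s c = (∏ c ∈ T.erase b, s c) * s b := (Finset.prod_erase_mul T s hb).symm
      rw [h1, map_mul]
      exact ((hsa b hb).mul_left (∏ c ∈ T.erase b, s c)).of_eq (by ring)
    | zero => rw [map_zero, zero_div, mul_zero]; exact InA.zero
    | add b c _ _ hb hc => rw [map_add, add_div, mul_add]; exact hb.add hc
    | smul r b _ hb =>
      rw [smul_eq_mul, map_mul]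
      exact (hb.mul_left r).of_eq (by ring)
  intro hle
  apply hs₀
  apply hle
  rw [hst (n₀ + n') (Nat.le_add_right _ _)]
  intro y hy h
  obtain ⟨a, ha⟩ := h
  have hx0' : algebraMap A K x ^ (n₀ + n' + 1) ≠ 0 := pow_ne_zero _ hx0
  have hy' : y = algebraMap A K a / algebraMap A K x ^ (n₀ + n' + 1) :=
    eq_div_of_mul_eq hx0' (by rw [ha, mul_comm])
  have ha𝔞 : a ∈ 𝔞 := by
    change TA I _
    rw [← hy']
    exact hy
  refine (key a ha𝔞).of_eq ?_
  rw [← hdiv a, ← hy']

theorem exists_pow_sat [IsNoetherianRing A] [IsDomain A] (q : Ideal A) [hq : q.IsPrime]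
    (𝔠 : Ideal A) (h : ∀ q' : Ideal A, q'.IsPrime → q' ≤ q → 𝔠 ≤ q' → q' = q) :
    ∃ t : ℕ, ∀ m : ℕ, ∀ b ∈ q ^ (t * m), ∃ s : A, s ∉ q ∧ s * b ∈ 𝔠 ^ m := by
  let R := Localization.AtPrime q
  have hrad : IsLocalRing.maximalIdeal R ≤ (𝔠.map (algebraMap A R)).radical := by
    rw [Ideal.radical_eq_sInf]
    refine le_sInf ?_
    rintro P ⟨hcP, hP⟩
    have hq' : (P.comap (algebraMap A R)).IsPrime := Ideal.comap_isPrime _ _
    have hle : P.comap (algebraMap A R) ≤ q := by
      have h3 := IsLocalization.AtPrime.under_maximalIdeal R q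
      exact (Ideal.comap_mono (IsLocalRing.le_maximalIdeal hP.ne_top)).trans h3.le
    have hc : 𝔠 ≤ P.comap (algebraMap A R) := Ideal.map_le_iff_le_comap.1 hcP
    have heq := h _ hq' hle hc
    have : P = IsLocalRing.maximalIdeal R := by
      have h3 : (P.comap (algebraMap A R)).map (algebraMap A R) = P :=
        IsLocalization.map_under q.primeCompl R P
      rw [← h3, heq, IsLocalization.AtPrime.map_eq_maximalIdeal]
    exact this.ge
  obtain ⟨t, ht⟩ := Ideal.exists_pow_le_of_le_radical_of_fg hrad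
    (IsNoetherian.noetherian _)
  refine ⟨t, fun m b hb => ?_⟩
  have h1 : algebraMap A R b ∈ (𝔠 ^ m).map (algebraMap A R) := by
    rw [Ideal.map_pow]
    have h2 : algebraMap A R b ∈ (q ^ (t * m)).map (algebraMap A R) := Ideal.mem_map_of_mem _ hb
    rw [Ideal.map_pow, IsLocalization.AtPrime.map_eq_maximalIdeal, pow_mul] at h2
    exact Ideal.pow_right_mono ht m h2
  rw [IsLocalization.mem_map_algebraMap_iff q.primeCompl] at h1
  obtain ⟨⟨c, s⟩, hcs⟩ := h1
  refine ⟨s.1, s.2, ?_⟩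
  have hinj : Function.Injective (algebraMap A R) :=
    IsLocalization.injective R q.primeCompl_le_nonZeroDivisors
  have : s.1 * b = c.1 := hinj (by rw [map_mul, mul_comm]; exact hcs)
  rw [this]
  exact c.2

theorem F_of_E [IsNoetherianRing A] [IsDomain A] {I : Ideal A} {x : A} (hx : x ∈ I)
    (hx0 : algebraMap A K x ≠ 0) {n₀ : ℕ}
    (hst : ∀ m : ℕ, n₀ ≤ m → cIdeal K I x n₀ = cIdeal K I x m)
    (q : Ideal A) [hq : q.IsPrime]
    (hlt : ∀ q' : Ideal A, q'.IsPrime → q' < q → F K I x q') (hE : E K x q) : F K I x q := by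
  obtain ⟨j, hj⟩ := hE
  have h1 : ∀ q' : Ideal A, q'.IsPrime → q' ≤ q → cIdeal K I x n₀ ≤ q' → q' = q := by
    intro q' hq' hle hc
    by_contra hne
    exact cIdeal_not_le_of_F hx0 hst q' (hlt q' hq' (lt_of_le_of_ne hle hne)) hc
  obtain ⟨t, ht⟩ := exists_pow_sat q _ h1
  refine ⟨j + n₀, fun y hy => ?_⟩
  obtain ⟨s₀, hs₀, hTA⟩ := hy.exists_TA
  obtain ⟨k, hk⟩ := hTA.pow_mem hx
  have h2 : InA A (algebraMap A K x ^ (n₀ + k) * (algebraMap A K s₀ * y)) :=
    (hk.mul_left (x ^ n₀)).of_eq (by rw [map_pow]; ring)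
  have h3 := desc hst k _ hTA h2
  have h4 : TLoc q q (algebraMap A K x ^ n₀ * (algebraMap A K s₀ * y)) := by
    refine ⟨t * k, fun b hb => ?_⟩
    obtain ⟨s, hs, hsb⟩ := ht k b hb
    exact ⟨s, hs, (h3 _ hsb).of_eq (by rw [map_mul]; ring)⟩
  have h5 := hj _ h4
  exact InLoc.of_mul hs₀ (h5.of_eq (by ring))

theorem F_all [IsNoetherianRing A] [IsDomain A] {I : Ideal A} {x : A} (hx : x ∈ I)
    (hx0 : algebraMap A K x ≠ 0) (hE : ∀ q : Ideal A, q.IsPrime → I ≤ q → E K x q) {n₀ : ℕ}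
    (hst : ∀ m : ℕ, n₀ ≤ m → cIdeal K I x n₀ = cIdeal K I x m) :
    ∀ (n : ℕ) (q : Ideal A), q.IsPrime → q.height < n → F K I x q := by
  intro n
  induction n with
  | zero =>
    intro q _ h
    exact absurd h (by simp)
  | succ n ih =>
    intro q hq h
    by_cases hIq : I ≤ q
    · refine F_of_E hx hx0 hst q (fun q' hq' hlt => ih q' hq' ?_) (hE q hq hIq)
      have h1 : q'.height < q.height := Ideal.height_strict_mono_of_isPrime hlt
      have h2 : q.height ≤ n := by
        rw [Nat.cast_succ] at h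
        exact Order.le_of_lt_add_one h
      exact lt_of_lt_of_le h1 h2
    · exact F_of_not_le q hIq

/-- the local-global principle: if for every prime `q ⊇ I` a power of `x` kills `H^1_{qA_q}(A_q)`,
then a power of `x` kills `H^1_I(A)`. -/
theorem G_of_E [IsNoetherianRing A] [IsDomain A] {I : Ideal A} {x : A} (hx : x ∈ I)
    (hx0 : algebraMap A K x ≠ 0) (hE : ∀ q : Ideal A, q.IsPrime → I ≤ q → E K x q) :
    G K I x := by
  obtain ⟨n₀, hst⟩ := exists_stable (K := K) I x
  by_cases htop : cIdeal K I x n₀ = ⊤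
  · exact G_of_top hx hst htop
  · exfalso
    obtain ⟨M, hM, hle⟩ := Ideal.exists_le_maximal _ htop
    have hMp : M.IsPrime := hM.isPrime
    have hfin : M.height ≠ ⊤ := Ideal.height_ne_top hMp.ne_top
    have hF : F K I x M := by
      refine F_all hx hx0 hE hst (M.height.toNat + 1) M hMp ?_
      rw [Nat.cast_add, Nat.cast_one, ENat.natCast_toNat hfin]
      exact (ENat.lt_add_one_iff hfin).2 le_rfl
    exact cIdeal_not_le_of_F hx0 hst M hF hle

end Chain

end Groth.Agent.Lib.Helper39.LocGlob
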