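import Groth.Agent.Lib.Helper39.PushCompl.Frac
import Groth.Agent.Lib.Helper92.LocCohDT

/-!
# helper39: `H^1_J(B)` of a domain `B` in the language of its fraction field
`H^1_J(B) = D_J(B)/B` with `D_J(B) = {y ∈ Frac B | J^t y ⊆ B for some t}`; an element `c` kills
`H^1_J(B)` iff `c • D_J(B) ⊆ B`.
-/

set_option autoImplicit false
universe u

namespace Groth.Agent.Lib.Helper39.LocGlob

open Groth.Agent.Lib.Helper92.IdealTransform Groth.Agent.Lib.Helper92.LC LocCoh
  Groth.Agent.Lib.Helper39.PushCompl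

variable (B : Type u) [CommRing B] [IsDomain B] (J : Ideal B)

theorem toFrac_injective (hJ : J ≠ ⊥) : Function.Injective (toFrac B J hJ) := by
  rw [← LinearMap.ker_eq_bot, LinearMap.ker_eq_bot']
  intro w hw
  obtain ⟨t, ψ, rfl⟩ := exists_repL J B w
  have hinj := IsFractionRing.injective B (FractionRing B)
  rw [toFrac_mkL B J hJ t ψ (elt B J hJ t) (elt_mem B J hJ t) (elt_ne_zero B J hJ t),
    div_eq_zero_iff] at hw
  have h0 : ψ ⟨elt B J hJ t, elt_mem B J hJ t⟩ = 0 := by
    rcases hw with hw | hw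
    · exact (map_eq_zero_iff _ hinj).1 hw
    · exact absurd ((map_eq_zero_iff _ hinj).1 hw) (elt_ne_zero B J hJ t)
  have hψ : ψ = 0 := by
    ext b'
    have e1 : (elt B J hJ t) • ψ b' = ψ ((elt B J hJ t) • b') := (map_smul ψ _ _).symm
    have e2 : (b'.1) • ψ ⟨elt B J hJ t, elt_mem B J hJ t⟩ =
        ψ (b'.1 • ⟨elt B J hJ t, elt_mem B J hJ t⟩) := (map_smul ψ _ _).symm
    have e3 : (elt B J hJ t) • b' = b'.1 • (⟨elt B J hJ t, elt_mem B J hJ t⟩ : ↥(J ^ t)) := by
      apply Subtype.ext
      change elt B J hJ t * b'.1 = b'.1 * elt B J hJ t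
      exact mul_comm _ _
    rw [e3, ← e2, h0, smul_zero, smul_eq_mul] at e1
    rcases mul_eq_zero.1 e1 with h | h
    · exact absurd h (elt_ne_zero B J hJ t)
    · exact h
  rw [hψ, mkL_zero]

theorem toFrac_toDT (hJ : J ≠ ⊥) (a : B) :
    toFrac B J hJ (toDT J B a) = algebraMap B (FractionRing B) a := by
  have hinj := IsFractionRing.injective B (FractionRing B)
  rw [toDT_eq J B a 0, toFrac_mkL B J hJ 0 _ (elt B J hJ 0) (elt_mem B J hJ 0) (elt_ne_zero B J hJ 0)]
  have h1 : algebraMap B (FractionRing B) (elt B J hJ 0) ≠ 0 := by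
    rw [Ne, map_eq_zero_iff _ hinj]
    exact elt_ne_zero B J hJ 0
  rw [smulMap_apply, smul_eq_mul, map_mul]
  exact mul_div_cancel_left₀ _ h1

theorem mul_toFrac_mem (hJ : J ≠ ⊥) (w : DT J B) :
    ∃ t : ℕ, ∀ b ∈ J ^ t, ∃ a : B,
      algebraMap B (FractionRing B) a = algebraMap B (FractionRing B) b * toFrac B J hJ w := by
  obtain ⟨t, ψ, rfl⟩ := exists_repL J B w
  have hinj := IsFractionRing.injective B (FractionRing B)
  refine ⟨t, fun b hb => ?_⟩
  by_cases hb0 : b = 0
  · subst hb0
    exact ⟨0, by rw [map_zero, zero_mul]⟩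
  · refine ⟨ψ ⟨b, hb⟩, ?_⟩
    have h1 : algebraMap B (FractionRing B) b ≠ 0 := by
      rw [Ne, map_eq_zero_iff _ hinj]
      exact hb0
    rw [toFrac_mkL B J hJ t ψ b hb hb0, mul_div_assoc', mul_comm, mul_div_assoc, div_self h1, mul_one]

theorem mem_range_toFrac_of_pow (hJ : J ≠ ⊥) (x : FractionRing B) (n : ℕ)
    (hn : ∀ b ∈ J ^ n, ∃ a : B,
      algebraMap B (FractionRing B) a = algebraMap B (FractionRing B) b * x) :
    x ∈ LinearMap.range (toFrac B J hJ) := by
  have hinj := IsFractionRing.injective B (FractionRing B)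
  have hch : ∀ b : ↥(J ^ n), ∃ a : B,
      algebraMap B (FractionRing B) a = algebraMap B (FractionRing B) b.1 * x := fun b => hn b.1 b.2
  let ψ : ↥(J ^ n) →ₗ[B] B :=
    { toFun := fun b => (hch b).choose
      map_add' := by
        intro b c
        apply hinj
        rw [map_add, (hch b).choose_spec, (hch c).choose_spec, (hch (b + c)).choose_spec]
        change algebraMap B (FractionRing B) (b.1 + c.1) * x = _
        rw [map_add, add_mul]
      map_smul' := by
        intro r b
        apply hinj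
        rw [RingHom.id_apply, smul_eq_mul, map_mul, (hch b).choose_spec,
          (hch (r • b)).choose_spec]
        change algebraMap B (FractionRing B) (r * b.1) * x = _
        rw [map_mul, mul_assoc] }
  refine ⟨mkL J B n ψ, ?_⟩
  rw [toFrac_mkL B J hJ n ψ (elt B J hJ n) (elt_mem B J hJ n) (elt_ne_zero B J hJ n)]
  have h1 : algebraMap B (FractionRing B) (elt B J hJ n) ≠ 0 := by
    rw [Ne, map_eq_zero_iff _ hinj]
    exact elt_ne_zero B J hJ n
  have h2 : algebraMap B (FractionRing B) (ψ ⟨elt B J hJ n, elt_mem B J hJ n⟩) =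
      algebraMap B (FractionRing B) (elt B J hJ n) * x :=
    (hch ⟨elt B J hJ n, elt_mem B J hJ n⟩).choose_spec
  rw [h2, mul_comm, mul_div_assoc, div_self h1, mul_one]

/-- `c` kills `H^1_J(B)` iff `c` multiplies the ideal transform (inside the fraction field) into
`B`. -/
theorem smul_H1_eq_zero_iff (hJ : J ≠ ⊥) (c : B) :
    (∀ z : LocCoh.H J 1 B, c • z = 0) ↔
      ∀ y : FractionRing B, (∃ t : ℕ, ∀ b ∈ J ^ t, ∃ a : B,
        algebraMap B (FractionRing B) a = algebraMap B (FractionRing B) b * y) →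
        ∃ a : B, algebraMap B (FractionRing B) a = algebraMap B (FractionRing B) c * y := by
  constructor
  · rintro h y ⟨t, ht⟩
    obtain ⟨w, rfl⟩ := mem_range_toFrac_of_pow B J hJ y t ht
    have h1 : θ J B (c • w) = 0 := by
      rw [map_smul]
      exact h _
    obtain ⟨a, ha⟩ := θ_eq_zero J B _ h1
    refine ⟨a, ?_⟩
    rw [← toFrac_toDT B J hJ a, ha, map_smul, Algebra.smul_def]
  · intro h z
    obtain ⟨w, rfl⟩ := θ_surjective J B z
    obtain ⟨a, ha⟩ := h (toFrac B J hJ w) (mul_toFrac_mem B J hJ w)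
    have h1 : toDT J B a = c • w := by
      apply toFrac_injective B J hJ
      rw [toFrac_toDT, ha, map_smul, Algebra.smul_def]
    rw [← map_smul, ← h1]
    exact θ_toDT J B a

/-- the same, in an arbitrary fraction field. -/
theorem smul_H1_eq_zero_iff' (K' : Type u) [Field K'] [Algebra B K'] [IsFractionRing B K']
    (hJ : J ≠ ⊥) (c : B) :
    (∀ z : LocCoh.H J 1 B, c • z = 0) ↔
      ∀ y : K', (∃ t : ℕ, ∀ b ∈ J ^ t, ∃ a : B,
        algebraMap B K' a = algebraMap B K' b * y) →
        ∃ a : B, algebraMap B K' a = algebraMap B K' c * y := by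
  rw [smul_H1_eq_zero_iff B J hJ c]
  let e : FractionRing B ≃ₐ[B] K' := FractionRing.algEquiv B K'
  have key : ∀ (a b : B) (y' : K'), algebraMap B K' a = algebraMap B K' b * y' ↔
      algebraMap B (FractionRing B) a = algebraMap B (FractionRing B) b * e.symm y' := by
    intro a b y'
    constructor
    · intro h
      have := congrArg e.symm h
      rwa [map_mul, AlgEquiv.commutes, AlgEquiv.commutes] at this
    · intro h
      have := congrArg e h
      rwa [map_mul, AlgEquiv.commutes, AlgEquiv.commutes, AlgEquiv.apply_symm_apply] at this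
  constructor
  · rintro h y' ⟨t, ht⟩
    obtain ⟨a, ha⟩ := h (e.symm y') ⟨t, fun b hb => by
      obtain ⟨a, ha⟩ := ht b hb
      exact ⟨a, (key a b y').1 ha⟩⟩
    exact ⟨a, (key a c y').2 ha⟩
  · rintro h y ⟨t, ht⟩
    obtain ⟨a, ha⟩ := h (e y) ⟨t, fun b hb => by
      obtain ⟨a, ha⟩ := ht b hb
      refine ⟨a, (key a b (e y)).2 ?_⟩
      rw [AlgEquiv.symm_apply_apply]
      exact ha⟩
    refine ⟨a, ?_⟩
    have := (key a c (e y)).1 ha
    rwa [AlgEquiv.symm_apply_apply] at this

end Groth.Agent.Lib.Helper39.LocGlob
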