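import Groth.Agent.Lib.Helper39.LocGlob.Local

/-!
# helper39: Kollár's criterion for finiteness of `H^1_I(M)` (sufficiency) — S1755
-/

set_option autoImplicit false
universe u
open IsLocalRing

namespace Groth.Agent.Lib.Helper39.LocGlob

open Groth.Agent.Lib.Helper39.ComplCrit Groth.Agent.Lib.Helper39.H1Fin
  Groth.Agent.Lib.Helper39.PushCompl

variable {A : Type u} [CommRing A] [IsNoetherianRing A]

/-- finiteness of `H^1_I(A/p)` over `A` is finiteness of `H^1` of `A/p` over itself. -/
theorem finite_H1_quotient_iff_self' (I p : Ideal A) :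
    Module.Finite (A ⧸ p) (LocCoh.H (I.map (Ideal.Quotient.mk p)) 1 (A ⧸ p)) ↔
      Module.Finite A (LocCoh.H I 1 (A ⧸ p)) := by
  obtain ⟨φ, hφ⟩ := Helper98.CechRestrict.lc_restrict (R := A) (R' := A ⧸ p) I (A ⧸ p) 1
  exact finite_iff_of_semilinear_addEquiv Ideal.Quotient.mk_surjective φ hφ

theorem algebraMapSubmonoid_primeCompl_eq (p q : Ideal A) [q.IsPrime] (hpq : p ≤ q)
    [hq' : (q.map (Ideal.Quotient.mk p)).IsPrime] :
    Algebra.algebraMapSubmonoid (A ⧸ p) q.primeCompl =
      (q.map (Ideal.Quotient.mk p)).primeCompl := by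
  ext z
  constructor
  · rintro ⟨y, hy, rfl⟩
    intro hmem
    exact hy ((Ideal.mem_quotient_iff_mem hpq).1 hmem)
  · intro hz
    obtain ⟨y, rfl⟩ := Ideal.Quotient.mk_surjective z
    refine ⟨y, ?_, rfl⟩
    intro hy
    exact hz ((Ideal.mem_quotient_iff_mem hpq).2 hy)

theorem E_quotient (p : Ideal A) [p.IsPrime] (q : Ideal A) [q.IsPrime] (hpq : p ≤ q)
    (x' : A ⧸ p) (hx' : x' ∈ q.map (Ideal.Quotient.mk p)) (hx0 : x' ≠ 0)
    (hC : ∀ P ∈ associatedPrimes
        (AdicCompletion ((maximalIdeal (Localization.AtPrime q)).map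
          (Ideal.Quotient.mk (p.map (algebraMap A (Localization.AtPrime q)))))
          (Localization.AtPrime q ⧸ p.map (algebraMap A (Localization.AtPrime q))))
        (AdicCompletion ((maximalIdeal (Localization.AtPrime q)).map
          (Ideal.Quotient.mk (p.map (algebraMap A (Localization.AtPrime q)))))
          (Localization.AtPrime q ⧸ p.map (algebraMap A (Localization.AtPrime q)))),
      (2 : WithBot ℕ∞) ≤ ringKrullDim
        (AdicCompletion ((maximalIdeal (Localization.AtPrime q)).map
          (Ideal.Quotient.mk (p.map (algebraMap A (Localization.AtPrime q)))))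
          (Localization.AtPrime q ⧸ p.map (algebraMap A (Localization.AtPrime q))) ⧸ P)) :
    E (FractionRing (A ⧸ p)) x' (q.map (Ideal.Quotient.mk p)) := by
  have h𝔭 : p.map (algebraMap A (Localization.AtPrime q)) ≠ ⊤ := by
    intro htop
    have h1 : p.map (algebraMap A (Localization.AtPrime q)) ≤
        maximalIdeal (Localization.AtPrime q) := by
      rw [← IsLocalization.AtPrime.map_eq_maximalIdeal q (Localization.AtPrime q)]
      exact Ideal.map_mono hpq
    rw [htop] at h1
    exact (maximalIdeal.isMaximal (Localization.AtPrime q)).ne_top (top_le_iff.1 h1)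
  haveI : Nontrivial (Localization.AtPrime q ⧸ p.map (algebraMap A (Localization.AtPrime q))) :=
    Ideal.Quotient.nontrivial_iff.2 h𝔭
  haveI : IsLocalRing (Localization.AtPrime q ⧸ p.map (algebraMap A (Localization.AtPrime q))) :=
    IsLocalRing.of_surjective' (Ideal.Quotient.mk _) Ideal.Quotient.mk_surjective
  have hJ : (maximalIdeal (Localization.AtPrime q)).map
      (Ideal.Quotient.mk (p.map (algebraMap A (Localization.AtPrime q)))) =
      maximalIdeal (Localization.AtPrime q ⧸ p.map (algebraMap A (Localization.AtPrime q))) :=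
    IsLocalRing.map_maximalIdeal_of_surjective _ Ideal.Quotient.mk_surjective
  haveI hq'prime : (q.map (Ideal.Quotient.mk p)).IsPrime :=
    Ideal.map_isPrime_of_surjective Ideal.Quotient.mk_surjective (by rw [Ideal.mk_ker]; exact hpq)
  haveI : IsLocalization.AtPrime
      (Localization.AtPrime q ⧸ p.map (algebraMap A (Localization.AtPrime q)))
      (q.map (Ideal.Quotient.mk p)) := by
    have heq := algebraMapSubmonoid_primeCompl_eq p q hpq
    change IsLocalization (q.map (Ideal.Quotient.mk p)).primeCompl _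
    rw [← heq]
    infer_instance
  have hfin : Module.Finite
      (Localization.AtPrime q ⧸ p.map (algebraMap A (Localization.AtPrime q)))
      (LocCoh.H (maximalIdeal
        (Localization.AtPrime q ⧸ p.map (algebraMap A (Localization.AtPrime q)))) 1
        (Localization.AtPrime q ⧸ p.map (algebraMap A (Localization.AtPrime q)))) := by
    apply finite_H1_self_of_ass
    rw [← hJ]
    exact hC
  exact E_of_finite (A ⧸ p) (FractionRing (A ⧸ p)) (q.map (Ideal.Quotient.mk p)) x' hx' hx0
    (Localization.AtPrime q ⧸ p.map (algebraMap A (Localization.AtPrime q))) hfin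

theorem kollar (I : Ideal A) (M : Type u) [AddCommGroup M] [Module A M] [Module.Finite A M]
    (h : ∀ p : Ideal A, p ∈ associatedPrimes A M → ¬ I ≤ p → ∀ (q : PrimeSpectrum A),
      p ≤ q.asIdeal → I ≤ q.asIdeal →
      ∀ P ∈ associatedPrimes
        (AdicCompletion ((maximalIdeal (Localization.AtPrime q.asIdeal)).map
          (Ideal.Quotient.mk (p.map (algebraMap A (Localization.AtPrime q.asIdeal)))))
          (Localization.AtPrime q.asIdeal ⧸ p.map (algebraMap A (Localization.AtPrime q.asIdeal))))
        (AdicCompletion ((maximalIdeal (Localization.AtPrime q.asIdeal)).map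
          (Ideal.Quotient.mk (p.map (algebraMap A (Localization.AtPrime q.asIdeal)))))
          (Localization.AtPrime q.asIdeal ⧸ p.map (algebraMap A (Localization.AtPrime q.asIdeal)))),
      (2 : WithBot ℕ∞) ≤ ringKrullDim
        (AdicCompletion ((maximalIdeal (Localization.AtPrime q.asIdeal)).map
          (Ideal.Quotient.mk (p.map (algebraMap A (Localization.AtPrime q.asIdeal)))))
          (Localization.AtPrime q.asIdeal ⧸
            p.map (algebraMap A (Localization.AtPrime q.asIdeal))) ⧸ P)) :
    Module.Finite A (LocCoh.H I 1 M) := by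
  change P I M
  rw [H1Fin.main]
  intro p hp hIp
  haveI hpp : p.IsPrime := hp.isPrime
  change Module.Finite A (LocCoh.H I 1 (A ⧸ p))
  rw [← finite_H1_quotient_iff_self']
  obtain ⟨x, hxI, hxp⟩ := SetLike.not_le_iff_exists.1 hIp
  have hx' : Ideal.Quotient.mk p x ∈ I.map (Ideal.Quotient.mk p) := Ideal.mem_map_of_mem _ hxI
  have hx0 : Ideal.Quotient.mk p x ≠ 0 := by
    rwa [Ne, Ideal.Quotient.eq_zero_iff_mem]
  refine finite_H1_of_E (A ⧸ p) _ _ hx' hx0 (fun q' hq' hIq' => ?_)
  haveI := hq'
  have hq'eq : q' = (q'.comap (Ideal.Quotient.mk p)).map (Ideal.Quotient.mk p) :=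
    (Ideal.map_comap_of_surjective _ Ideal.Quotient.mk_surjective q').symm
  have hpq : p ≤ q'.comap (Ideal.Quotient.mk p) := by
    intro a ha
    rw [Ideal.mem_comap, Ideal.Quotient.eq_zero_iff_mem.2 ha]
    exact q'.zero_mem
  have hIq : I ≤ q'.comap (Ideal.Quotient.mk p) := Ideal.map_le_iff_le_comap.1 hIq'
  have hxq : Ideal.Quotient.mk p x ∈
      (q'.comap (Ideal.Quotient.mk p)).map (Ideal.Quotient.mk p) := by
    rw [← hq'eq]
    exact hIq' hx'
  rw [hq'eq]
  exact E_quotient p (q'.comap (Ideal.Quotient.mk p)) hpq _ hxq hx0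
    (h p hp hIp ⟨q'.comap (Ideal.Quotient.mk p), inferInstance⟩ hpq hIq)

end Groth.Agent.Lib.Helper39.LocGlob
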