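import Groth.Agent.Lib.Helper39.LocGlob.FracLang
import Groth.Agent.Lib.Helper39.LocGlob.Chain
import Groth.Agent.Lib.Helper39.ComplCrit.Main

/-!
# helper39: from finiteness of `H^1_m(R)`, `R` a model of `A_q`, to the fraction-field statement
`E x q`; and the resulting finiteness theorem for `H^1_I(A)`.
-/

set_option autoImplicit false
universe u
open IsLocalRing TensorProduct

namespace Groth.Agent.Lib.Helper39.LocGlob

open Groth.Agent.Lib.Helper39.ComplCrit Groth.Agent.Lib.Helper39.H1Fin
  Groth.Agent.Lib.Helper39.PushCompl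

theorem E_of_finite (A : Type u) [CommRing A] [IsDomain A] [IsNoetherianRing A]
    (K : Type u) [Field K] [Algebra A K] [IsFractionRing A K]
    (q : Ideal A) [hq : q.IsPrime] (x : A) (hx : x ∈ q) (hx0 : x ≠ 0)
    (R : Type u) [CommRing R] [Algebra A R] [IsLocalization.AtPrime R q] [IsLocalRing R]
    (hfin : Module.Finite R (LocCoh.H (maximalIdeal R) 1 R)) : E K x q := by
  have hle : q.primeCompl ≤ nonZeroDivisors A := q.primeCompl_le_nonZeroDivisors
  haveI : IsDomain R := IsLocalization.isDomain_of_le_nonZeroDivisors R hle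
  haveI : IsNoetherianRing R := IsLocalization.isNoetherianRing q.primeCompl R inferInstance
  have hinjK : Function.Injective (algebraMap A K) := IsFractionRing.injective A K
  have hinjR : Function.Injective (algebraMap A R) := IsLocalization.injective R hle
  have hunit : ∀ s : q.primeCompl, IsUnit (algebraMap A K s.1) := by
    intro s
    apply IsUnit.mk0
    rw [Ne, map_eq_zero_iff _ hinjK]
    rintro h0
    exact s.2 (h0 ▸ q.zero_mem)
  let ιR : R →+* K := IsLocalization.lift (M := q.primeCompl) (g := algebraMap A K) hunit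
  letI : Algebra R K := ιR.toAlgebra
  haveI : IsScalarTower A R K := IsScalarTower.of_algebraMap_eq
    (fun a => (IsLocalization.lift_eq (M := q.primeCompl) hunit a).symm)
  haveI : IsFractionRing R K :=
    IsFractionRing.isFractionRing_of_isDomain_of_isLocalization q.primeCompl R K
  have hxm : algebraMap A R x ∈ maximalIdeal R := by
    rw [← IsLocalization.AtPrime.map_eq_maximalIdeal q R]
    exact Ideal.mem_map_of_mem _ hx
  have hm0 : maximalIdeal R ≠ ⊥ := by
    intro h0
    rw [h0, Ideal.mem_bot, map_eq_zero_iff _ hinjR] at hxm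
    exact hx0 hxm
  obtain ⟨j, hj⟩ := K_of_P (maximalIdeal R) R hfin
  have hkill : ∀ z : LocCoh.H (maximalIdeal R) 1 R, (algebraMap A R x) ^ j • z = 0 :=
    fun z => hj _ (Ideal.pow_mem_pow hxm j) z
  rw [smul_H1_eq_zero_iff' R (maximalIdeal R) K hm0] at hkill
  refine ⟨j, fun y hy => ?_⟩
  obtain ⟨k, hk⟩ := hy
  have hcond : ∃ t : ℕ, ∀ b ∈ (maximalIdeal R) ^ t, ∃ a : R,
      algebraMap R K a = algebraMap R K b * y := by
    refine ⟨k, fun b hb => ?_⟩
    rw [← IsLocalization.AtPrime.map_eq_maximalIdeal q R, ← Ideal.map_pow] at hb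
    change b ∈ Submodule.span R _ at hb
    induction hb using Submodule.span_induction with
    | mem b hb =>
      obtain ⟨b₀, hb₀, rfl⟩ := hb
      obtain ⟨s, hs, a, ha⟩ := hk b₀ hb₀
      refine ⟨IsLocalization.mk' R a (⟨s, hs⟩ : q.primeCompl), ?_⟩
      have hs0 : algebraMap A K s ≠ 0 := by
        rw [Ne, map_eq_zero_iff _ hinjK]
        rintro rfl
        exact hs q.zero_mem
      apply mul_left_cancel₀ hs0
      have h1 : algebraMap A K s * algebraMap R K (IsLocalization.mk' R a (⟨s, hs⟩ : q.primeCompl)) =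
          algebraMap A K a := by
        rw [IsScalarTower.algebraMap_apply A R K s, ← map_mul, mul_comm,
          IsLocalization.mk'_spec, ← IsScalarTower.algebraMap_apply]
      rw [h1, ha, ← IsScalarTower.algebraMap_apply A R K]
    | zero => exact ⟨0, by rw [map_zero, zero_mul]⟩
    | add b c _ _ hb hc =>
      obtain ⟨a, ha⟩ := hb
      obtain ⟨a', ha'⟩ := hc
      exact ⟨a + a', by rw [map_add, map_add, add_mul, ha, ha']⟩
    | smul r b _ hb =>
      obtain ⟨a, ha⟩ := hb
      exact ⟨r * a, by rw [smul_eq_mul, map_mul, map_mul, ha, mul_assoc]⟩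
  obtain ⟨a', ha'⟩ := hkill y hcond
  obtain ⟨⟨a, s⟩, has⟩ := IsLocalization.surj q.primeCompl a'
  refine ⟨s.1, s.2, a, ?_⟩
  have h2 := congrArg (algebraMap R K) has
  rw [map_mul, ← IsScalarTower.algebraMap_apply, ← IsScalarTower.algebraMap_apply, ha',
    map_pow, ← IsScalarTower.algebraMap_apply] at h2
  rw [← h2]
  ring

/-- the local-global theorem: `H^1_I(A)` is finite as soon as `H^1_{qA_q}(A_q)` is killed by a power
of `x` for all primes `q ⊇ I`. -/
theorem finite_H1_of_E (A : Type u) [CommRing A] [IsDomain A] [IsNoetherianRing A] (I : Ideal A)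
    (x : A) (hx : x ∈ I) (hx0 : x ≠ 0)
    (hE : ∀ q : Ideal A, q.IsPrime → I ≤ q → E (FractionRing A) x q) :
    Module.Finite A (LocCoh.H I 1 A) := by
  have hinj := IsFractionRing.injective A (FractionRing A)
  have hx0' : algebraMap A (FractionRing A) x ≠ 0 := by
    rw [Ne, map_eq_zero_iff _ hinj]
    exact hx0
  have hI : I ≠ ⊥ := by
    rintro rfl
    exact hx0 hx
  obtain ⟨n, hn⟩ := G_of_E (K := FractionRing A) hx hx0' hE
  refine finite_H1_of_smul_eq_zero I A (x ^ n) ?_ ?_
  · exact (IsRegular.of_ne_zero (pow_ne_zero n hx0)).left.isSMulRegular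
  · rw [smul_H1_eq_zero_iff A I hI]
    intro y hy
    obtain ⟨a, ha⟩ := hn y hy
    exact ⟨a, by rw [ha, map_pow]⟩

/-- the completion criterion for the ring itself. -/
theorem finite_H1_self_of_ass (R : Type u) [CommRing R] [IsNoetherianRing R] [IsLocalRing R]
    (h : ∀ P ∈ associatedPrimes (AdicCompletion (maximalIdeal R) R)
        (AdicCompletion (maximalIdeal R) R),
      (2 : WithBot ℕ∞) ≤ ringKrullDim (AdicCompletion (maximalIdeal R) R ⧸ P)) :
    Module.Finite R (LocCoh.H (maximalIdeal R) 1 R) := by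
  rw [← isCoherentPushCompl_iff_H1, ComplCrit.main R R]
  intro p' hp' _
  apply h
  have e : (EGA4.Cpl R) ⊗[R] R ≃ₗ[EGA4.Cpl R] (EGA4.Cpl R) :=
    TensorProduct.AlgebraTensorModule.rid R (EGA4.Cpl R) (EGA4.Cpl R)
  rw [← LinearEquiv.AssociatedPrimes.eq e]
  exact hp'

end Groth.Agent.Lib.Helper39.LocGlob
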